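import Groth.Agent.RelPerfFibres.Alg
import Groth.Agent.DRingKP.Fibre
import Groth.Agent.DRingKP.FlatBC
import Groth.Agent.DRingKP.SplitGap
import Groth.Agent.DRingKP.Restrict

/-!
# Splitting near a prime where a cohomology of the fibre vanishes
-/

set_option backward.isDefEq.respectTransparency false
set_option backward.isDefEq.respectTransparency.types false
set_option linter.style.haveILetI false
set_option autoImplicit false
universe u

namespace Groth.Agent.SplitAway

open CategoryTheory Limits DerivedCategory HomologicalComplex MonoidalCategory TensorProduct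
open Groth.Agent.DRingKP

attribute [local instance] HasDerivedCategory.standard

variable {R : Type u} [CommRing R]

/-- a homotopy up to an element outside `p` from exactness at `p` -/
theorem exists_homotopy_away (p : Ideal R) [p.IsPrime] {X Y Z : Type u} [AddCommGroup X] [Module R X]
    [AddCommGroup Y] [Module R Y] [AddCommGroup Z] [Module R Z] [Module.Finite R X] [Module.Finite R Y]
    [Module.Projective R Y] [Module.Finite R Z] [Module.Projective R Z]
    (e : X →ₗ[R] Y) (d : Y →ₗ[R] Z) (hde : ∀ x, d (e x) = 0)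
    (hz : ∀ y, d y ∈ p • (⊤ : Submodule R Z) →
      ∃ u ∈ p.primeCompl, ∃ w, u • y - e w ∈ p • (⊤ : Submodule R Y)) :
    ∃ u ∈ p.primeCompl, ∃ (s : Z →ₗ[R] Y) (t : Y →ₗ[R] X), ∀ y, s (d y) + e (t y) = u • y := by
  let S := p.primeCompl
  let Rp := Localization.AtPrime p
  let C := Y ⧸ LinearMap.range e
  let δ : C →ₗ[R] Z := (LinearMap.range e).liftQ d (by rintro _ ⟨w, rfl⟩; exact hde w)
  let L : LocalizedModule S C →ₗ[Rp] LocalizedModule S Z := LocalizedModule.map S δ
  haveI : Module.FinitePresentation R Z := Module.finitePresentation_of_projective R Z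
  haveI : Module.Projective Rp (LocalizedModule S Z) :=
    Module.projective_of_isLocalizedModule S (LocalizedModule.mkLinearMap S Z)
  haveI : Module.Finite Rp (LocalizedModule S C) :=
    Module.Finite.of_isLocalizedModule S (LocalizedModule.mkLinearMap S C)
  haveI : Module.Finite Rp (LocalizedModule S Z) :=
    Module.Finite.of_isLocalizedModule S (LocalizedModule.mkLinearMap S Z)
  obtain ⟨r, hr⟩ := DRingKP.exists_retraction_of_mod_maximal L fun m hm x hx => by
    obtain rfl : m = p.map (algebraMap R Rp) := by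
      rw [IsLocalization.AtPrime.map_eq_maximalIdeal p Rp]
      exact IsLocalRing.eq_maximalIdeal hm
    induction x using LocalizedModule.induction_on with
    | h c s =>
      obtain ⟨y, rfl⟩ := Submodule.Quotient.mk_surjective _ c
      have hL : L (LocalizedModule.mk (Submodule.Quotient.mk y) s) = LocalizedModule.mk (d y) s := by
        change IsLocalizedModule.map S _ _ δ _ = _
        rw [IsLocalizedModule.mk_eq_mk', IsLocalizedModule.map_mk', IsLocalizedModule.mk_eq_mk']
        rfl
      rw [hL] at hx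
      obtain ⟨t, ht, hty⟩ := (RelPerfFibres.mem_map_smul_iff p p _ s).1 hx
      obtain ⟨u, hu, w, hw⟩ := hz (t • y) (by rw [map_smul]; exact hty)
      refine (RelPerfFibres.mem_map_smul_iff p p _ s).2 ⟨u * t, mul_mem hu ht, ?_⟩
      have h1 := Submodule.mem_map_of_mem (f := (LinearMap.range e).mkQ) hw
      rw [Submodule.map_smul''] at h1
      convert Submodule.smul_mono le_rfl le_top h1 using 1
      rw [mul_smul, map_sub, map_smul, map_smul, Submodule.mkQ_apply, Submodule.mkQ_apply,
        (Submodule.Quotient.mk_eq_zero _).2 (LinearMap.mem_range_self e w), sub_zero]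
  obtain ⟨r₀, s₀, hr₀⟩ := Module.FinitePresentation.exists_lift_of_isLocalizedModule S
    (LocalizedModule.mkLinearMap S C) ((r.restrictScalars R) ∘ₗ LocalizedModule.mkLinearMap S Z)
  have hcomm : ∀ c : C, LocalizedModule.mkLinearMap S C (r₀ (δ c)) =
      LocalizedModule.mkLinearMap S C ((s₀ : R) • c) := fun c => by
    have h1 := LinearMap.congr_fun hr₀ (δ c)
    have h2 : L (LocalizedModule.mkLinearMap S C c) = LocalizedModule.mkLinearMap S Z (δ c) :=
      IsLocalizedModule.map_apply S (LocalizedModule.mkLinearMap S C) (LocalizedModule.mkLinearMap S Z) δ c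
    refine h1.trans ?_
    rw [map_smul]
    change (s₀ : R) • r (LocalizedModule.mkLinearMap S Z (δ c)) = _
    rw [← h2]
    exact congrArg _ (LinearMap.congr_fun hr (LocalizedModule.mkLinearMap S C c))
  obtain ⟨s₁, hs₁⟩ := Module.Finite.exists_smul_of_comp_eq_of_isLocalizedModule S
    (LocalizedModule.mkLinearMap S C) (r₀ ∘ₗ δ) ((s₀ : R) • LinearMap.id) (LinearMap.ext fun c => hcomm c)
  obtain ⟨s, hs⟩ := Module.projective_lifting_property (LinearMap.range e).mkQ ((s₁ : R) • r₀)
    (Submodule.mkQ_surjective _)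
  let u : R := (s₁ : R) * s₀
  have hmem : ∀ y, u • y - s (d y) ∈ LinearMap.range e := fun y => by
    rw [← Submodule.Quotient.mk_eq_zero, ← Submodule.mkQ_apply, map_sub, sub_eq_zero]
    have h1 : (LinearMap.range e).mkQ (s (d y)) = (s₁ : R) • r₀ (d y) := LinearMap.congr_fun hs (d y)
    have h2 := LinearMap.congr_fun hs₁ (Submodule.Quotient.mk y)
    rw [h1, map_smul, Submodule.mkQ_apply]
    exact ((mul_smul _ _ _).trans h2.symm)
  obtain ⟨t, ht⟩ := Module.projective_lifting_property e.rangeRestrict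
    ((u • LinearMap.id - s ∘ₗ d).codRestrict (LinearMap.range e) hmem) e.surjective_rangeRestrict
  refine ⟨u, mul_mem s₁.2 s₀.2, s, t, fun y => ?_⟩
  have hy : e (t y) = u • y - s (d y) := congrArg Subtype.val (LinearMap.congr_fun ht y)
  rw [hy, add_sub_cancel]

/-- exactness on the fibre in elements -/
theorem exists_sub_mem (p : Ideal R) [p.IsPrime] (P : DRing.Cx R) {i j k : ℤ} (hij : i + 1 = j) (hjk : j + 1 = k)
    (h : ((bc (algebraMap R p.ResidueField)).obj P).ExactAt j) (y : P.X j)
    (hy : (P.d j k).hom y ∈ p • (⊤ : Submodule R (P.X k))) :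
    ∃ u ∈ p.primeCompl, ∃ w, u • y - (P.d i j).hom w ∈ p • (⊤ : Submodule R (P.X j)) := by
  let κ := p.ResidueField
  let el : (ModuleCat.restrictScalars.{u} (algebraMap R κ)).obj (ModuleCat.of κ κ) ≃ₗ[R] κ :=
    { toFun := fun x => x
      invFun := fun x => x
      map_add' := fun _ _ => rfl
      map_smul' := fun r x => by
        rw [RingHom.id_apply, Algebra.smul_def]
        rfl
      left_inv := fun _ => rfl
      right_inv := fun _ => rfl }
  have h1 : ((tR (ModuleCat.of R κ)).obj P).ExactAt j := by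
    have h2 : (((ModuleCat.restrictScalars.{u} (algebraMap R κ)).mapHomologicalComplex (ComplexShape.up ℤ)).obj
        ((bc (algebraMap R κ)).obj P)).ExactAt j := by
      rw [exactAt_iff] at h ⊢
      exact h.map (ModuleCat.restrictScalars.{u} (algebraMap R κ))
    exact h2.of_iso (bcRestrictIso (algebraMap R κ) P ≪≫
      (NatIso.mapHomologicalComplex ((tensoringRight (ModuleCat.{u} R)).mapIso el.toModuleIso) _).app P)
  rw [exactAt_iff' _ i j k (by simp; omega) (by simp; omega), ShortComplex.moduleCat_exact_iff] at h1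
  have hy0 : ((P.d j k).hom y) ⊗ₜ[R] (1 : κ) = 0 := by
    refine Submodule.smul_induction_on hy (fun r hr n _ => ?_) (fun x₁ x₂ h₁ h₂ => ?_)
    · rw [TensorProduct.smul_tmul, Algebra.smul_def, mul_one, Ideal.algebraMap_residueField_eq_zero.2 hr,
        TensorProduct.tmul_zero]
    · rw [TensorProduct.add_tmul, h₁, h₂, add_zero]
  obtain ⟨z, hz⟩ := h1 (y ⊗ₜ[R] (1 : κ)) hy0
  obtain ⟨u, hu, n, hn⟩ := (RelPerfFibres.fibre_elem p (P.X i)).2 z
  have hd : (u • y - (P.d i j).hom n) ⊗ₜ[R] (1 : κ) = 0 := by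
    rw [TensorProduct.sub_tmul, sub_eq_zero, ← TensorProduct.smul_tmul']
    refine (congrArg (u • ·) hz).symm.trans (((P.d i j).hom.rTensor κ).map_smul u z).symm |>.trans ?_
    rw [hn]
    exact LinearMap.rTensor_tmul _ _ _ _
  obtain ⟨v, hv, hvy⟩ := (RelPerfFibres.fibre_elem p (P.X j)).1 _ hd
  refine ⟨v * u, fun h' => ((inferInstance : p.IsPrime).mem_or_mem h').elim hv hu, v • n, ?_⟩
  rwa [smul_sub, ← mul_smul, ← map_smul] at hvy

local notation "tt" => (DerivedCategory.TStructure.t : Triangulated.TStructure (Dual.D _))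

/-- **splitting near a prime** -/
theorem exists_split (p : Ideal R) [p.IsPrime] [DRing.HasLBaseChange (algebraMap R p.ResidueField)] (i : ℤ)
    (K : DRing.Cx R) (hK : DRing.IsPseudoCoherent' R (DRing.toD K))
    (hi : Subsingleton (Dual.HD p.ResidueField ((DRing.LBaseChange (algebraMap R p.ResidueField)).obj (DRing.toD K)) i)) :
    ∃ f : R, f ∉ p ∧
      let Kf := DRing.toD ((bc (algebraMap R (Localization.Away f))).obj K)
      let Kge := ((tt).truncGE (i + 1)).obj Kf
      let Klt := ((tt).truncLT i).obj Kf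
      DRing.IsPerfect (Localization.Away f) Kge ∧
        (∃ b : ℤ, DRing.HasTorAmplitudeIn (Localization.Away f) (i + 1) b Kge) ∧
        ∀ [HasBinaryBiproduct Kge Klt], ∃ e : Kf ≅ Kge ⊞ Klt,
          e.hom ≫ biprod.fst = ((tt).truncGEπ (i + 1)).app Kf ∧ ((tt).truncLTι i).app Kf ≫ e.hom = biprod.inr := by
  obtain ⟨P, c, hc, hP, ⟨eP⟩⟩ := id hK
  haveI := isKProjective_of_vanishesAbove hc (projective_X (termwiseFiniteProjective_of_free hP))
  haveI := fun k => (hP k).1
  haveI := fun k => (hP k).2
  have hex : ((bc (algebraMap R p.ResidueField)).obj P).ExactAt i :=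
    (exactAt_iff_isZero_homology _ _).2 ((@ModuleCat.isZero_of_subsingleton _ _ _ hi).of_iso
      (((homologyFunctorFactors _ i).app _).symm ≪≫ (DerivedCategory.homologyFunctor _ i).mapIso
        ((lBaseChangeIso (algebraMap R p.ResidueField) P).symm ≪≫ (DRing.LBaseChange _).mapIso eP)))
  obtain ⟨f, hf, s, t, hst⟩ := exists_homotopy_away p (P.d (i - 1) i).hom (P.d i (i + 1)).hom
    (fun x => LinearMap.congr_fun (congrArg ModuleCat.Hom.hom (P.d_comp_d (i - 1) i (i + 1))) x)
    (fun y hy => exists_sub_mem p P (by omega) rfl hex y hy)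
  refine ⟨f, hf, ?_⟩
  intro Kf Kge Klt
  let B := Localization.Away f
  let χ := algebraMap R B
  let F := ModuleCat.extendScalars.{u, u, u} χ
  let Q := (bc χ).obj P
  have hQb : DRing.VanishesAbove Q c := fun j hj => F.map_isZero (hc j hj)
  have hQ : DRing.TermwiseFiniteFree Q := fun j => extendScalars_finiteFree χ (hP j)
  haveI := isKProjective_of_vanishesAbove hQb (projective_X (termwiseFiniteProjective_of_free hQ))
  haveI : Module.Flat R B := IsLocalization.flat B (Submonoid.powers f)
  let eQ : DRing.toD Q ≅ Kf := bcDIso χ (RingHom.flat_algebraMap_iff.2 inferInstance) eP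
  have hb : ∀ j : ℤ, c < j → Subsingleton (Dual.HD B Kf j) := fun j hj =>
    ModuleCat.subsingleton_of_isZero (((ShortComplex.isZero_homology_of_isZero_X₂ _ (hQb j hj)).of_iso
      ((homologyFunctorFactors _ j).app Q)).of_iso ((DerivedCategory.homologyFunctor _ j).mapIso eQ).symm)
  -- the homotopy after localisation
  let σ : Q.X (i + 1) ⟶ Q.X i := F.map (ModuleCat.ofHom s : P.X (i + 1) ⟶ P.X i)
  let τ : Q.X i ⟶ Q.X (i - 1) := F.map (ModuleCat.ofHom t : P.X i ⟶ P.X (i - 1))
  obtain ⟨g, hg⟩ : ∃ g : B, g * χ f = 1 :=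
    (IsLocalization.map_units B (⟨f, Submonoid.mem_powers f⟩ : Submonoid.powers f)).exists_left_inv
  have hσ : ∀ x : Q.X i, σ.hom ((Q.d i (i + 1)).hom x) + (Q.d (i - 1) i).hom (τ.hom x) = χ f • x := by
    intro x
    induction x using TensorProduct.induction_on with
    | zero =>
      change σ.hom ((Q.d i (i + 1)).hom (0 : Q.X i)) + (Q.d (i - 1) i).hom (τ.hom (0 : Q.X i)) = χ f • (0 : Q.X i)
      simp only [map_zero, add_zero, smul_zero]
    | tmul c' y =>
      let c₀ : (ModuleCat.restrictScalars χ).obj (ModuleCat.of B B) := c'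
      refine ((TensorProduct.tmul_add c₀ _ _).symm.trans ?_)
      change c₀ ⊗ₜ[R] (s ((P.d i (i + 1)).hom y) + (P.d (i - 1) i).hom (t y)) = _
      rw [hst]
      exact (TensorProduct.smul_tmul f (show (ModuleCat.restrictScalars χ).obj (ModuleCat.of B B) from c') y).symm
    | add x₁ x₂ h₁ h₂ =>
      change σ.hom ((Q.d i (i + 1)).hom ((show Q.X i from x₁) + (show Q.X i from x₂))) +
        (Q.d (i - 1) i).hom (τ.hom ((show Q.X i from x₁) + (show Q.X i from x₂))) = χ f • ((show Q.X i from x₁) + (show Q.X i from x₂))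
      simp only [map_add, smul_add, ← h₁, ← h₂]
      abel
  have hB : ∀ N : ModuleCat.{u} B, Subsingleton (Kf ⟶ ((DerivedCategory.singleFunctor (ModuleCat.{u} B) 0).obj N)⟦-i⟧) := by
    intro N
    let Sg : DRing.Cx B := (HomologicalComplex.single _ (ComplexShape.up ℤ) i).obj N
    suffices Subsingleton (DerivedCategory.Q.obj Q ⟶ DerivedCategory.Q.obj Sg) from
      @Equiv.subsingleton _ _ (homShiftEquiv eQ N i).symm this
    refine subsingleton_of_forall_eq 0 fun α => ?_
    obtain ⟨φ, rfl⟩ := PerfLocal.exists_lift α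
    have hd : Q.d (i - 1) i ≫ φ.f i = 0 := by
      rw [← φ.comm, (isZero_single_obj_X (ComplexShape.up ℤ) i N (i - 1) (by lia)).eq_of_src (Sg.d (i - 1) i) 0, comp_zero]
    let r : Q.X (i + 1) ⟶ Sg.X i := ModuleCat.ofHom (g • (φ.f i).hom.comp σ.hom)
    have hr : Q.d i (i + 1) ≫ r = φ.f i := ModuleCat.hom_ext (LinearMap.ext fun x => by
      have h0 : (φ.f i).hom ((Q.d (i - 1) i).hom (τ.hom x)) = 0 :=
        LinearMap.congr_fun (congrArg ModuleCat.Hom.hom hd) (τ.hom x)
      show g • (φ.f i).hom (σ.hom ((Q.d i (i + 1)).hom x)) = (φ.f i).hom x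
      rw [eq_sub_of_add_eq (hσ x), map_sub, h0, sub_zero, map_smul, ← mul_smul, hg, one_smul])
    let hom : ∀ k l, Q.X k ⟶ Sg.X l := fun k l =>
      if h : k = i + 1 ∧ l = i then (Q.XIsoOfEq h.1).hom ≫ r ≫ (Sg.XIsoOfEq h.2.symm).hom else 0
    have hom1 : hom (i + 1) i = r := by simp [hom]
    have hS0 : Sg.d (i - 1) i = 0 :=
      IsZero.eq_of_src (isZero_single_obj_X (ComplexShape.up ℤ) i N (i - 1) (ne_of_lt (sub_one_lt i))) _ _
    let ho : Homotopy φ 0 :=
      { hom := hom
        zero := fun k l hkl => by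
          simp only [hom]
          rw [dif_neg]
          rintro ⟨rfl, rfl⟩
          exact hkl (by simp)
        comm := fun k => by
          by_cases hk : k = i
          · rw [hk, dNext_eq _ (show (ComplexShape.up ℤ).Rel i (i + 1) from rfl),
              prevD_eq _ (show (ComplexShape.up ℤ).Rel (i - 1) i by simp), hom1, hr, hS0]
            rw [comp_zero, add_zero, HomologicalComplex.zero_f, add_zero]
          · exact (isZero_single_obj_X (ComplexShape.up ℤ) i N k hk).eq_of_tgt _ _ }
    rw [DerivedCategory.Q_map_eq_of_homotopy _ ho, Functor.map_zero]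
  have hHi : Subsingleton (Dual.HD B Kf i) := zero_homology_of_ext eQ i (hB _)
  have hz : IsZero ((DerivedCategory.homologyFunctor (ModuleCat.{u} B) i).obj Kf) :=
    @ModuleCat.isZero_of_subsingleton _ _ ((DerivedCategory.homologyFunctor (ModuleCat.{u} B) i).obj Kf) hHi
  let L1 := ((tt).truncLT (i + 1)).obj Kf
  let ν := ((tt).natTransTruncLTOfLE i (i + 1) (by lia)).app Kf
  have hν : ν ≫ ((tt).truncLTι (i + 1)).app Kf = ((tt).truncLTι i).app Kf :=
    (tt).natTransTruncLTOfLE_ι_app i (i + 1) (by lia) Kf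
  haveI hL0 : Klt.IsLE (i - 1) := inferInstanceAs ((tt).IsLE (((tt).truncLT i).obj Kf) (i - 1))
  haveI hL1 : L1.IsLE i := inferInstanceAs ((tt).IsLE (((tt).truncLT (i + 1)).obj Kf) i)
  haveI : IsIso ν := by
    rw [DerivedCategory.isIso_iff]
    intro j
    rcases lt_trichotomy j i with hj | rfl | hj
    · haveI := isIso_homology_truncLTι Kf i j hj
      haveI := isIso_homology_truncLTι Kf (i + 1) j (by lia)
      have := congrArg (DerivedCategory.homologyFunctor (ModuleCat.{u} B) j).map hν
      rw [Functor.map_comp] at this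
      exact IsIso.of_isIso_fac_right this
    · haveI := isIso_homology_truncLTι Kf (j + 1) j (by lia)
      exact isIso_of_source_target_iso_zero _
        (DerivedCategory.isZero_of_isLE Klt (j - 1) j (by lia)).isoZero
        (hz.of_iso (asIso ((DerivedCategory.homologyFunctor (ModuleCat.{u} B) j).map
          (((tt).truncLTι (j + 1)).app Kf)))).isoZero
    · exact isIso_of_source_target_iso_zero _
        (DerivedCategory.isZero_of_isLE Klt (i - 1) j (by lia)).isoZero
        (DerivedCategory.isZero_of_isLE L1 i j (by lia)).isoZero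
  haveI : HasBinaryBiproduct L1 Kge := inferInstance
  obtain ⟨⟨e, he₁, he₂⟩, E, b', hE, hEp, ⟨eE⟩⟩ := split_of_hom_vanishing i c Kf hb fun N =>
    subsingleton_of_forall_eq 0 fun g => hom_trunc_eq_zero N g (@Subsingleton.elim _ (hB N) _ _)
  have hamp : DRing.HasTorAmplitudeIn B (i + 1) b' Kge :=
    ⟨E, hE, fun j => haveI := hEp j; inferInstance, ⟨eE⟩⟩
  have hpcK : DRing.IsPseudoCoherent' B Kf := ⟨Q, c, hQb, hQ, ⟨eQ⟩⟩
  have hpc : DRing.IsPseudoCoherent' B Kge :=
    pc'_iff.2 fun n => (pc_biprod n L1 Kge (pc_of_iso e (pc_of_pc' hpcK n))).2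
  refine ⟨(DRingKP.isPerfect_iff Kge).2 ⟨hpc, _, _, hamp⟩, ⟨b', hamp⟩, ?_⟩
  intro hbp
  haveI : HasBinaryBiproduct Klt Kge := inferInstance
  refine ⟨e ≪≫ biprod.mapIso (asIso ν).symm (Iso.refl Kge) ≪≫ biprod.braiding _ _, ?_, ?_⟩
  · simp only [Iso.trans_hom, Category.assoc, biprod.braiding_hom, biprod.mapIso_hom, Iso.refl_hom, biprod.lift_fst, biprod.map_snd, Category.comp_id]
    erw [biprod.lift_fst, biprod.map_snd, Category.comp_id]
    exact he₂
  · rw [← hν, Category.assoc]
    simp only [Iso.trans_hom, biprod.mapIso_hom, Iso.symm_hom, asIso_inv, Iso.refl_hom]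
    erw [reassoc_of% he₁]
    simp only [biprod.inl_map_assoc, IsIso.hom_inv_id_assoc, biprod.braiding_hom]
    apply biprod.hom_ext
    · erw [Category.assoc, biprod.lift_fst, biprod.inl_snd, biprod.inr_fst]
    · erw [Category.assoc, biprod.lift_snd, biprod.inl_fst, biprod.inr_snd]

end Groth.Agent.SplitAway
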